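import Groth.Agent.DblTrLib.Trace

/-! The trace-free line of a double cover pulls back to the ramification ideal and splits the direct image. -/

set_option autoImplicit false
set_option linter.style.haveILetI false
set_option maxHeartbeats 1000000
universe u

open CategoryTheory CategoryTheory.Limits AlgebraicGeometry TopologicalSpace Opposite
open EtTwoLib (dirO algV)
open KFlatLib (pb puSec)
open AmpleLib (GenOn GenAt)

noncomputable section

namespace DblTrLib

variable {X Y : Scheme.{u}} {π : X ⟶ Y} [IsLocallyNoetherian Y] {τ : dirO π ⟶ Coh.structureModule Y}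
  (hd : FlatMod.IsFinLocFreeOfRank 2 (dirO π)) (hτ : IsTr π τ) (h2 : IsUnit (2 : Γ(Y, ⊤)))

include hd hτ h2 in
theorem isInvertible_kernel : PicF.IsInvertible (kernel τ) := by
  choose W a k hW hyW hk hka hbij hc using exists_chart hd hτ h2
  exact TwistLib.isInvertible_of_genOn W (fun y => ⟨y, hyW y⟩) k hk

include hd hτ h2 in
/-- The trace-free line pulls back to the ramification ideal. -/
theorem nonempty_pb_kernel_iso [IsIntegral X] [IsFinite π] :
    Nonempty (pb π (kernel τ) ≅ ClSub.idealMod (Fitt.sheafIdeal (Omega.sheaf π) 0)) := by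
  choose W a k hW hyW hk hka hbij hc using exists_chart hd hτ h2
  let θ : pb π (kernel τ) ⟶ Coh.structureModule X :=
    ((Scheme.Modules.pullbackPushforwardAdjunction π).homEquiv _ _).symm (kernel.ι τ)
  let U : X → X.affineOpens := fun x => ⟨π ⁻¹ᵁ W (π x), (hW (π x)).preimage π⟩
  have hxU : ∀ x, x ∈ (U x).1 := fun x => hyW (π x)
  have hθ : ∀ x, θ.app (U x).1 (puSec π (k (π x))) = a (π x) := fun x => by
    rw [← hka]
    exact ConcreteCategory.congr_hom (congrArg (fun φ : kernel τ ⟶ _ => φ.app (W (π x)))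
      (((Scheme.Modules.pullbackPushforwardAdjunction π).homEquiv (kernel τ) (Coh.structureModule X)).apply_symm_apply
        (kernel.ι τ))) (k (π x))
  haveI := FittLib.isQCoh_omega π
  have hfit : ∀ x, (Fitt.sheafIdeal (Omega.sheaf π) 0).ideal (U x) = Ideal.span {(a (π x) : Γ(X, (U x).1))} := by
    intro x
    letI := algV π (W (π x))
    letI : Algebra Γ(Y, W (π x)) Γ(X, (U x).1) := algV π (W (π x))
    obtain ⟨ev, -⟩ := OmegaAffLib.exists_equiv_alg (OmegaAffLib.isUniversal_dOmega (f := π)) (hW (π x)) (U x).2 le_rfl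
      (show algebraMap Γ(Y, W (π x)) Γ(X, (U x).1) = (π.appLE (W (π x)) (π ⁻¹ᵁ W (π x)) le_rfl).hom from
        congrArg CommRingCat.Hom.hom (Scheme.Hom.app_eq_appLE _))
    rw [FittLib.sheafIdeal_ideal _ (FittLib.isFT_omega π) 0 (U x)]
    haveI := QCohLib.finite_of_isFT (FittLib.isFT_omega π) (U x).2
    haveI : Module.Finite Γ(X, (U x).1) Ω[Γ(X, (U x).1)⁄Γ(Y, W (π x))] := Module.Finite.equiv ev.symm
    rw [← FittLib.ideal_congr ev 0]
    obtain ⟨c, hc'⟩ := hc (π x)
    exact fitt_omega (hbij (π x)) hc' (isUnit_two h2 (W (π x)))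
  have hne : ∀ x, (a (π x) : Γ(X, (U x).1)) ≠ 0 := fun x h0 => by
    haveI : Nonempty (U x).1 := ⟨⟨x, hxU x⟩⟩
    have h := (hbij (π x)).1 (a₁ := (0, 1)) (a₂ := (0, 0)) (by
      show π.app _ (0 : Γ(Y, W (π x))) + π.app _ (1 : Γ(Y, W (π x))) * a (π x) = π.app _ (0 : Γ(Y, W (π x))) + π.app _ (0 : Γ(Y, W (π x))) * a (π x)
      rw [h0, mul_zero, mul_zero])
    exact one_ne_zero (α := Γ(X, (U x).1)) ((map_one (π.app (W (π x))).hom).symm.trans
      ((congrArg (π.app (W (π x))) (congrArg Prod.snd h)).trans (map_zero _)))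
  have hI : BlowUp.IsEffCartierIdeal (Fitt.sheafIdeal (Omega.sheaf π) 0) := fun x => by
    haveI : Nonempty (U x).1 := ⟨⟨x, hxU x⟩⟩
    exact ⟨U x, hxU x, a (π x), mem_nonZeroDivisors_of_ne_zero (hne x), hfit x⟩
  obtain ⟨v, -⟩ := SymSqLib.exists_iso_idealMod _ hI θ U (fun x => ⟨x, hxU x⟩) (fun x => puSec π (k (π x)))
    (fun x => TwistLib.genOn_of_genAt fun z hz =>
      TwistLib.GenAt.puSec π ((hk (π x)).genAt (x := π z) hz))
    (fun x => by rw [hfit x, hθ x])
  exact ⟨v⟩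

include hd hτ in
theorem unit_comp_trace : ClSub.unitToPush π ≫ τ = (2 : ℤ) • 𝟙 (Coh.structureModule Y) := by
  haveI : Coh.IsQCoh (dirO π) := (CurvLib.isCoh_of_locFree hd).1
  refine EtTwoLib.hom_ext_basis (fun V : EtTwoLib.Good π 2 => V.1.1) (EtTwoLib.isBasis_good hd) fun i r => ?_
  let r' : Γ(Y, i.1.1) := r
  have e : (show Γ(dirO π, i.1.1) from π.app i.1.1 r') = r' • (show Γ(dirO π, i.1.1) from (1 : Γ(X, π ⁻¹ᵁ i.1.1))) :=
    (show π.app i.1.1 r' = π.app i.1.1 r' * 1 from (mul_one _).symm)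
  show τ.app i.1.1 (show Γ(dirO π, i.1.1) from π.app i.1.1 r') = _
  rw [e, QCohLib.app_smul, hτ i]
  show r' * (show Γ(Y, i.1.1) from EtTwoLib.trV π i.1.1 (1 : Γ(X, π ⁻¹ᵁ i.1.1))) = _
  rw [trV_one, mul_two, two_smul]
  rfl

include h2 in
theorem isIso_two : IsIso ((2 : ℤ) • 𝟙 (Coh.structureModule Y)) := by
  refine (Scheme.Modules.Hom.isIso_iff_isIso_app (φ := (2 : ℤ) • 𝟙 (Coh.structureModule Y))).2 fun U =>
    (ConcreteCategory.isIso_iff_bijective _).2 ?_
  obtain ⟨u, hu⟩ := isUnit_two h2 U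
  have e : ∀ r : Γ(Y, U), ((2 : ℤ) • 𝟙 (Coh.structureModule Y)).app U r = (u : Γ(Y, U)) * r := fun r => by
    rw [hu, two_mul, two_smul]; rfl
  rw [show ⇑(((2 : ℤ) • 𝟙 (Coh.structureModule Y)).app U) = fun r : Γ(Y, U) => (u : Γ(Y, U)) * r from funext e]
  exact (Units.mulLeft_bijective u)

include hd hτ h2 in
/-- The direct image is the structure module plus the trace-free line. -/
theorem nonempty_split : Nonempty (dirO π ≅ Coh.structureModule Y ⊞ kernel τ) := by
  haveI := isIso_two (Y := Y) h2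
  let s : Coh.structureModule Y ⟶ dirO π := inv ((2 : ℤ) • 𝟙 (Coh.structureModule Y)) ≫ ClSub.unitToPush π
  have hs : s ≫ τ = 𝟙 _ := by rw [Category.assoc, unit_comp_trace hd hτ, IsIso.inv_hom_id]
  have h0 : (𝟙 (dirO π) - τ ≫ s) ≫ τ = 0 := by
    rw [Preadditive.sub_comp, Category.id_comp, Category.assoc, hs, Category.comp_id, sub_self]
  refine ⟨{ hom := biprod.lift τ (kernel.lift τ _ h0), inv := biprod.desc s (kernel.ι τ), hom_inv_id := ?_, inv_hom_id := ?_ }⟩
  · rw [biprod.lift_desc, kernel.lift_ι, add_sub_cancel]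
  · apply biprod.hom_ext' <;> apply biprod.hom_ext <;>
      simp [← cancel_mono (kernel.ι τ), hs, reassoc_of% hs]

end DblTrLib
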