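import Groth.Agent.FittLib.Props
import Mathlib.RingTheory.Kaehler.Basic

/-! Differentials of `A[a]/(a² - c)` with `2` invertible. -/

set_option autoImplicit false
universe u

open scoped KaehlerDifferential

noncomputable section

namespace DblTrLib

variable {A B : Type u} [CommRing A] [CommRing B] [Algebra A B] {a : B}
  (hbij : Function.Bijective fun p : A × A => algebraMap A B p.1 + algebraMap A B p.2 * a)
  {c : A} (hc : a * a = algebraMap A B c) (h2 : IsUnit (2 : A))

include hbij in
theorem smul_D_surjective : Function.Surjective fun b : B => b • KaehlerDifferential.D A B a := by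
  intro w
  have hw : w ∈ Submodule.span B (Set.range (KaehlerDifferential.D A B)) := by
    rw [KaehlerDifferential.span_range_derivation]; trivial
  refine Submodule.mem_span_singleton.1 (Submodule.span_le.2 ?_ hw)
  rintro _ ⟨b, rfl⟩
  obtain ⟨⟨p, q⟩, rfl⟩ := hbij.2 b
  refine Submodule.mem_span_singleton.2 ⟨algebraMap A B q, ?_⟩
  simp

include hbij hc h2 in
theorem smul_D_eq_zero_iff (b : B) : b • KaehlerDifferential.D A B a = 0 ↔ b ∈ Ideal.span {a} := by
  refine ⟨fun h => ?_, fun h => ?_⟩
  · let e := Equiv.ofBijective _ hbij
    have he : ∀ p q, e.symm (algebraMap A B p + algebraMap A B q * a) = (p, q) :=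
      fun p q => e.symm_apply_apply (p, q)
    let l : B →ₗ[A] A :=
      { toFun := fun x => (e.symm x).2
        map_add' := fun x y => by
          obtain ⟨⟨p, q⟩, rfl⟩ := hbij.2 x
          obtain ⟨⟨r, s⟩, rfl⟩ := hbij.2 y
          simp only [he]
          rw [show algebraMap A B p + algebraMap A B q * a + (algebraMap A B r + algebraMap A B s * a) =
            algebraMap A B (p + r) + algebraMap A B (q + s) * a by rw [map_add, map_add]; ring, he]
        map_smul' := fun t x => by
          obtain ⟨⟨p, q⟩, rfl⟩ := hbij.2 x
          simp only [he, RingHom.id_apply, smul_eq_mul]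
          rw [show t • (algebraMap A B p + algebraMap A B q * a) =
            algebraMap A B (t * p) + algebraMap A B (t * q) * a by
              rw [Algebra.smul_def, map_mul, map_mul]; ring, he] }
    let J := Ideal.span {a}
    let δl : B →ₗ[A] B ⧸ J := (Ideal.Quotient.mkₐ A J).toLinearMap.comp ((Algebra.linearMap A B).comp l)
    have hδ : ∀ p q, δl (algebraMap A B p + algebraMap A B q * a) = Ideal.Quotient.mk J (algebraMap A B q) :=
      fun p q => congrArg (fun t : A × A => Ideal.Quotient.mk J (algebraMap A B t.2)) (he p q)
    let δ : Derivation A B (B ⧸ J) := Derivation.mk' δl fun x y => by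
      obtain ⟨⟨p, q⟩, rfl⟩ := hbij.2 x
      obtain ⟨⟨r, s⟩, rfl⟩ := hbij.2 y
      dsimp only
      rw [show (algebraMap A B p + algebraMap A B q * a) * (algebraMap A B r + algebraMap A B s * a) =
          algebraMap A B (p * r + q * s * c) + algebraMap A B (p * s + q * r) * a by
        simp only [map_add, map_mul, ← hc]; ring, hδ, hδ, hδ, Algebra.smul_def, Algebra.smul_def,
        Ideal.Quotient.algebraMap_eq, ← map_mul, ← map_mul, ← map_add, Ideal.Quotient.eq, Ideal.mem_span_singleton']
      exact ⟨-(2 * algebraMap A B q * algebraMap A B s), by simp only [map_add, map_mul]; ring⟩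
    have h1 := congrArg δ.liftKaehlerDifferential h
    rw [map_smul, map_zero, Derivation.liftKaehlerDifferential_comp_D] at h1
    have h3 : δ a = Ideal.Quotient.mk J 1 := by
      have := hδ 0 1
      rw [map_zero, map_one, zero_add, one_mul] at this
      exact this
    rw [h3, Algebra.smul_def, Ideal.Quotient.algebraMap_eq, map_one, mul_one] at h1
    exact Ideal.Quotient.eq_zero_iff_mem.1 h1
  · obtain ⟨d, rfl⟩ := Ideal.mem_span_singleton'.1 h
    have h0 := congrArg (KaehlerDifferential.D A B) hc
    rw [Derivation.leibniz, Derivation.map_algebraMap, ← two_smul A, ] at h0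
    have h1 : a • KaehlerDifferential.D A B a = 0 := h2.smul_eq_zero.1 h0
    rw [mul_smul, h1, smul_zero]

include hbij hc h2 in
/-- The Fitting ideal of the differentials of a double cover. -/
theorem fitt_omega : Fitt.ideal B Ω[B⁄A] 0 = Ideal.span {a} := by
  let f := LinearMap.toSpanSingleton B Ω[B⁄A] (KaehlerDifferential.D A B a)
  have hs : Function.Surjective f := smul_D_surjective hbij
  have hk : LinearMap.ker f = Ideal.span {a} := by
    ext b; exact smul_D_eq_zero_iff hbij hc h2 b
  let e := (Submodule.quotEquivOfEq _ _ hk.symm).trans (f.quotKerEquivOfSurjective hs)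
  rw [← FittLib.ideal_congr (R := B) (M := B ⧸ Ideal.span {a}) e 0, FittLib.ideal_quotient]

end DblTrLib
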