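import Groth.Agent.DblTrLib.Main
import Groth.Agent.RamifLib.Fitt
import Groth.Agent.CurveH0Lib.Smooth
import Groth.Agent.HypSqLib.Curve
import Groth.Agent.CurveDualLib.DualField
import Groth.Agent.CurveFFLib.GenEtale
import Groth.Agent.GeomRedFieldLib.Generic
import Mathlib.FieldTheory.IsAlgClosed.Basic

/-! The canonical sheaf of a double cover of curves in characteristic zero. -/

set_option autoImplicit false
set_option linter.style.haveILetI false
set_option maxHeartbeats 1000000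
universe u

open CategoryTheory CategoryTheory.Limits AlgebraicGeometry TopologicalSpace Opposite
open EtTwoLib (dirO)
open KFlatLib (pb)
open HilbPolyLib (congrLeft congrRight assocIso swapIso unitLeft)

noncomputable section

namespace DblTrLib

variable {k : Type u} [Field k] [IsAlgClosed k] {X Y : Scheme.{u}} [X.Over (Spec (CommRingCat.of k))]
  [Y.Over (Spec (CommRingCat.of k))] (π : X ⟶ Y)

section Unique

variable [IsIntegral X] [IsProper (X ↘ Spec (CommRingCat.of k))]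
  (hπ : π ≫ (Y ↘ Spec (CommRingCat.of k)) = X ↘ Spec (CommRingCat.of k))

include hπ in
theorem appTop_surjective : Function.Surjective π.appTop := fun t => by
  let p := X ↘ Spec (CommRingCat.of k)
  letI : Field Γ(X, ⊤) := (isField_of_universallyClosed k p).toField
  let F := (Scheme.ΓSpecIso (CommRingCat.of k)).inv ≫ p.appTop
  letI : Algebra k Γ(X, ⊤) := F.hom.toAlgebra
  haveI : Module.Finite k Γ(X, ⊤) := by
    have h := (finite_appTop_of_universallyClosed k p).comp
      (RingHom.Finite.of_surjective (Scheme.ΓSpecIso (CommRingCat.of k)).inv.hom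
        (ConcreteCategory.bijective_of_isIso (Scheme.ΓSpecIso (CommRingCat.of k)).inv).2)
    exact h
  obtain ⟨c, hc⟩ := (IsAlgClosed.algebraMap_bijective_of_isIntegral (k := k) (K := Γ(X, ⊤))).2 t
  refine ⟨(Y ↘ Spec (CommRingCat.of k)).appTop ((Scheme.ΓSpecIso (CommRingCat.of k)).inv c), ?_⟩
  rw [← hc, ← ConcreteCategory.comp_apply, ← Scheme.Hom.comp_appTop, hπ]
  rfl

include hπ in
/-- A complement of the functions in the direct image has no sections. -/
theorem section_eq_zero [Nonempty Y] {D : Y.Modules} (e : dirO π ≅ Coh.structureModule Y ⊞ D) (m : Γ(D, ⊤)) :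
    m = 0 := by
  letI : Field Γ(X, ⊤) := (isField_of_universallyClosed k (X ↘ Spec (CommRingCat.of k))).toField
  let one : Γ(Coh.structureModule Y, (⊤ : Y.Opens)) := (1 : Γ(Y, ⊤))
  let inl := (biprod.inl : Coh.structureModule Y ⟶ Coh.structureModule Y ⊞ D)
  let inr := (biprod.inr : D ⟶ Coh.structureModule Y ⊞ D)
  let f : Γ(X, ⊤) := (inl ≫ e.inv).app ⊤ one
  let g : Γ(X, ⊤) := (inr ≫ e.inv).app ⊤ m
  have hf : f ≠ 0 := fun h0 => by
    have h := congrArg (fun φ : Coh.structureModule Y ⟶ Coh.structureModule Y => φ.app ⊤ one)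
      (show (inl ≫ e.inv) ≫ (e.hom ≫ biprod.fst) = 𝟙 _ by simp [inl])
    have h' : (e.hom ≫ biprod.fst).app ⊤ (f : Γ(dirO π, (⊤ : Y.Opens))) = one := h
    rw [h0] at h'
    haveI : Nonempty (⊤ : Y.Opens) := ⟨⟨Classical.arbitrary Y, trivial⟩⟩
    exact one_ne_zero (α := Γ(Y, ⊤)) (h'.symm.trans (map_zero _))
  obtain ⟨r, hr⟩ := appTop_surjective π hπ (g * f⁻¹)
  have hg : (inr ≫ e.inv).app ⊤ m = r • (inl ≫ e.inv).app ⊤ one := by
    show g = π.appTop r * f
    rw [hr, mul_assoc, inv_mul_cancel₀ hf, mul_one]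
  have h := congrArg ((e.hom ≫ biprod.snd).app ⊤) hg
  rw [QCohLib.app_smul] at h
  have h1 : ∀ (M : Y.Modules) (φ : M ⟶ dirO π) (x : Γ(M, ⊤)),
      (e.hom ≫ biprod.snd).app ⊤ (φ.app ⊤ x) = (φ ≫ e.hom ≫ biprod.snd).app ⊤ x := fun _ _ _ => rfl
  rw [h1, h1, show (inr ≫ e.inv) ≫ e.hom ≫ biprod.snd = 𝟙 D by simp [inr],
    show (inl ≫ e.inv) ≫ e.hom ≫ biprod.snd = 0 by simp [inl]] at h
  exact h.trans (smul_zero (A := Γ(D, (⊤ : Y.Opens))) (show Γ(Y, ⊤) from r))

include hπ in
theorem nonempty_iso_of_split [Nonempty Y] {D D' : Y.Modules} (e : dirO π ≅ Coh.structureModule Y ⊞ D)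
    (e' : dirO π ≅ Coh.structureModule Y ⊞ D') : Nonempty (D ≅ D') := by
  have key : ∀ {A B : Y.Modules} (u : dirO π ≅ Coh.structureModule Y ⊞ A) (v : dirO π ≅ Coh.structureModule Y ⊞ B),
      (biprod.inr ≫ u.inv ≫ v.hom ≫ biprod.snd) ≫ (biprod.inr ≫ v.inv ≫ u.hom ≫ biprod.snd) = 𝟙 A := by
    intro A B u v
    have h0 : biprod.inl ≫ v.inv ≫ u.hom ≫ biprod.snd = (0 : Coh.structureModule Y ⟶ A) :=
      (KFlatLib.unitSecEquiv A).injective ((section_eq_zero π hπ u _).trans (section_eq_zero π hπ u _).symm)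
    calc (biprod.inr ≫ u.inv ≫ v.hom ≫ biprod.snd) ≫ (biprod.inr ≫ v.inv ≫ u.hom ≫ biprod.snd)
        = biprod.inr ≫ u.inv ≫ v.hom ≫ (biprod.snd ≫ biprod.inr) ≫ v.inv ≫ u.hom ≫ biprod.snd := by
          simp only [Category.assoc]
      _ = biprod.inr ≫ u.inv ≫ v.hom ≫ (𝟙 _ - biprod.fst ≫ biprod.inl) ≫ v.inv ≫ u.hom ≫ biprod.snd := by
          rw [← biprod.total, add_sub_cancel_left]
      _ = 𝟙 A := by
          simp only [Preadditive.sub_comp, Preadditive.comp_sub, Category.assoc, h0, comp_zero, sub_zero]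
          simp
  exact ⟨⟨_, _, key e e', key e' e⟩⟩

end Unique

variable [CharZero k] [IsIntegral X] [IsProper (X ↘ Spec (CommRingCat.of k))] [Smooth (X ↘ Spec (CommRingCat.of k))]
  [IsIntegral Y] [IsProper (Y ↘ Spec (CommRingCat.of k))] [Smooth (Y ↘ Spec (CommRingCat.of k))]
  (hdimX : topologicalKrullDim X = 1) (hdimY : topologicalKrullDim Y = 1)
  [IsFinite π] [Flat π] (hπ : π ≫ (Y ↘ Spec (CommRingCat.of k)) = X ↘ Spec (CommRingCat.of k))
  (hrk : ∀ y : Y, π.finrank y = 2)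

include hdimX hdimY hπ hrk in
/-- The canonical sheaf of a double cover of curves. -/
theorem exists_delta : ∃ K Δ : Y.Modules, PicF.IsInvertible K ∧ PicF.IsInvertible Δ ∧
    Nonempty (dirO π ≅ Coh.structureModule Y ⊞ K) ∧ Nonempty (CohB1.tensorMod Δ K ≅ Coh.structureModule Y) ∧
    Nonempty (pb π (CohB1.tensorMod (Omega.sheaf (Y ↘ Spec (CommRingCat.of k))) Δ) ≅
      Omega.sheaf (X ↘ Spec (CommRingCat.of k))) := by
  haveI := CurvLib.isNoetherian k (X := Y)
  haveI := CurvLib.isNoetherian k (X := X)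
  haveI := HypSqLib.geomConn (k := k) (C := X)
  haveI := HypSqLib.geomConn (k := k) (C := Y)
  have h2Y : IsUnit (2 : Γ(Y, ⊤)) := by
    rw [← map_ofNat ((Scheme.ΓSpecIso (CommRingCat.of k)).inv ≫ (Y ↘ Spec (CommRingCat.of k)).appTop).hom 2]
    exact (two_ne_zero (α := k)).isUnit.map _
  have hd := rank_dirO π hrk
  obtain ⟨τ, hτ⟩ := exists_isTr hd
  have hK := isInvertible_kernel hd hτ h2Y
  obtain ⟨es⟩ := nonempty_split hd hτ h2Y
  obtain ⟨j⟩ := nonempty_pb_kernel_iso hd hτ h2Y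
  obtain ⟨dual⟩ := MiscFlat6.nonempty_dualIso hK
  refine ⟨_, MiscFlat6.dual _, hK, MiscFlat6.dual_isInvertible hK, ⟨es⟩, ⟨swapIso _ _ ≪≫ dual⟩, ?_⟩
  haveI : Surjective π := (Scheme.Hom.one_le_finrank_iff_surjective π).1 fun y => by rw [hrk]; simp
  have e : π (genericPoint X) = genericPoint Y := GeomRedFieldLib.map_genericPoint_eq π
  letI := ((Y.presheaf.stalkSpecializes (specializes_of_eq e) ≫ π.stalkMap (genericPoint X)).hom).toAlgebra
  haveI := CurveFFLib.finite_functionField (k := k) (hdimX.trans hdimY.symm) π hπ e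
  haveI : CharZero Y.functionField := by
    letI := Curv2.stalkAlgebra k Y (genericPoint Y)
    exact charZero_of_injective_algebraMap (algebraMap k Y.functionField).injective
  have hsep : Algebra.IsSeparable Y.functionField X.functionField := inferInstance
  have hΩX := CurveDualLib.omega_invertible_field k X hdimX
  have hΩY := CurveDualLib.omega_invertible_field k Y hdimY
  have hP := AmpleDevLib.isInvertible_pb π hΩY
  obtain ⟨c, hc, ⟨ec⟩⟩ := RamifLib.exists_hom π hπ e hΩX hsep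
  haveI := CurvLib.mono_of_ne_zero hP hΩX hc
  obtain ⟨i⟩ := RamifLib.nonempty_fitt_iso hP hΩX c
  have hcok := QCohLib.isCoh_cokernel c (CurvLib.isCoh_of_isInvertible hP).1 (CurvLib.isCoh_of_isInvertible hΩX)
  haveI := hcok.1
  haveI := FittLib.isQCoh_omega π
  rw [FittLib.sheafIdeal_congr ec hcok.2 (FittLib.isFT_omega π)] at i
  exact ⟨PicPnLib.pullTens π _ _ ≪≫ congrLeft (i.symm ≪≫ congrRight _ j.symm) _ ≪≫ assocIso _ _ _ ≪≫
    congrRight _ ((PicPnLib.pullTens π _ _).symm ≪≫ (Scheme.Modules.pullback π).mapIso dual ≪≫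
      KFlatLib.pullUnitIso π) ≪≫ swapIso _ _ ≪≫ unitLeft _⟩

end DblTrLib
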