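import Groth.Agent.DblTrLib.Alg
import Groth.Agent.EtTwoLib.Trace
import Groth.Agent.FinCovLib.Cover
import Groth.Agent.FinCovLib.Split
import Groth.Agent.SymSqLib.Descend
import Groth.Agent.FittLib.OmegaFitt
import Groth.Agent.OmegaAffLib.Chart

/-! The trace of a finite flat double cover and the trace-free line. -/

set_option autoImplicit false
set_option linter.style.haveILetI false
set_option maxHeartbeats 1000000
universe u

open CategoryTheory CategoryTheory.Limits AlgebraicGeometry TopologicalSpace Opposite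
open EtTwoLib (dirO algV mulBy trV Good frameBasis)
open KFlatLib (pb puSec)
open AmpleLib (GenOn GenAt)

noncomputable section

namespace DblTrLib

variable {X Y : Scheme.{u}} (π : X ⟶ Y)

theorem rank_dirO [IsFinite π] [Flat π] [LocallyOfFinitePresentation π] (hr : ∀ y : Y, π.finrank y = 2) :
    FlatMod.IsFinLocFreeOfRank 2 (dirO π) :=
  FinCovLib.rank_push_of_isCover π ⟨⟨inferInstance, inferInstance, inferInstance⟩, hr⟩

/-- `τ` is the trace on every chart of the direct image. -/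
def IsTr (τ : dirO π ⟶ Coh.structureModule Y) : Prop := ∀ (i : Good π 2) m, τ.app i.1.1 m = trV π i.1.1 m

variable {π}

theorem exists_isTr [IsLocallyNoetherian Y] (hd : FlatMod.IsFinLocFreeOfRank 2 (dirO π)) : ∃ τ, IsTr π τ := by
  haveI : Coh.IsQCoh (dirO π) := (CurvLib.isCoh_of_locFree hd).1
  exact EtTwoLib.exists_hom_of_basis (fun V : Good π 2 => V.1.1) (EtTwoLib.isBasis_good hd) (fun i => trV π i.1.1)
    (fun i j hij m => EtTwoLib.trV_res i j hij m) (fun i r m => EtTwoLib.trV_smul _ r m)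

theorem isTr_of_isTraceHom [Coh.IsQCoh (dirO π)] {τ : dirO π ⟶ Coh.structureModule Y} (h : FinCov.IsTraceHom π τ) :
    IsTr π τ := fun i m => by
  obtain ⟨b, hb⟩ := i.2
  letI := algV π i.1.1
  let B : Module.Basis (Fin 2) Γ(Y, i.1.1) Γ(X, π ⁻¹ᵁ i.1.1) := frameBasis i.1.2 b hb
  exact (h _ i.1.2 (Module.Free.of_basis B) (Module.Finite.of_basis B) m).trans rfl

variable {τ : dirO π ⟶ Coh.structureModule Y}

theorem trV_one [Coh.IsQCoh (dirO π)] (i : Good π 2) :
    (show Γ(Y, i.1.1) from trV π i.1.1 (1 : Γ(X, π ⁻¹ᵁ i.1.1))) = 2 := by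
  obtain ⟨b, hb⟩ := i.2
  change LinearMap.trace Γ(Y, i.1.1) Γ(dirO π, i.1.1) (mulBy π i.1.1 1) = _
  rw [show mulBy π i.1.1 1 = LinearMap.id from LinearMap.ext fun t => one_mul (show Γ(X, π ⁻¹ᵁ i.1.1) from t),
    LinearMap.trace_eq_matrix_trace _ (frameBasis i.1.2 b hb), LinearMap.toMatrix_id, Matrix.trace_one,
    Fintype.card_fin]
  norm_num

variable [IsLocallyNoetherian Y] (hd : FlatMod.IsFinLocFreeOfRank 2 (dirO π)) (hτ : IsTr π τ)
  (h2 : IsUnit (2 : Γ(Y, ⊤)))

include h2 in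
theorem isUnit_two (V : Y.Opens) : IsUnit (2 : Γ(Y, V)) := by
  rw [← map_ofNat (Y.presheaf.map (homOfLE (le_top : V ≤ ⊤)).op).hom 2]; exact h2.map _

include hd hτ h2 in
/-- Near every point the direct image is `O ⊕ O a` with `a` trace free of scalar square. -/
theorem exists_chart (y : Y) : ∃ (W : Y.Opens) (a : Γ(X, π ⁻¹ᵁ W)) (k : Γ(kernel τ, W)), IsAffineOpen W ∧ y ∈ W ∧
    GenOn (kernel τ) k ∧ (kernel.ι τ).app W k = a ∧
    Function.Bijective (fun p : Γ(Y, W) × Γ(Y, W) => π.app W p.1 + π.app W p.2 * a) ∧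
    ∃ c : Γ(Y, W), a * a = π.app W c := by
  haveI : Coh.IsQCoh (dirO π) := (CurvLib.isCoh_of_locFree hd).1
  haveI : Coh.IsQCoh (kernel τ) :=
    (QCohLib.isCoh_kernel τ (CurvLib.isCoh_of_locFree hd) QCohLib.isQCoh_unit).1
  obtain ⟨_, ⟨i, rfl⟩, hyV, -⟩ := Opens.isBasis_iff_nbhd.mp (EtTwoLib.isBasis_good hd) (show y ∈ (⊤ : Y.Opens) from trivial)
  obtain ⟨b, hb⟩ := i.2
  let B := frameBasis i.1.2 b hb
  let φ : Γ(dirO π, i.1.1) →ₗ[Γ(Y, i.1.1)] Γ(Y, i.1.1) := QCohLib.appLin τ i.1.1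
  have hex : ∃ l, IsUnit (Y.presheaf.germ i.1.1 y hyV (φ (B l))) := by
    by_contra hne
    simp only [not_exists] at hne
    refine (IsLocalRing.mem_maximalIdeal _).mp ?_ ((isUnit_two h2 i.1.1).map (Y.presheaf.germ i.1.1 y hyV).hom)
    have e : φ (show Γ(dirO π, i.1.1) from (1 : Γ(X, π ⁻¹ᵁ i.1.1))) = 2 := (hτ i _).trans (trV_one i)
    rw [← e, ← B.sum_repr (show Γ(dirO π, i.1.1) from (1 : Γ(X, π ⁻¹ᵁ i.1.1))), map_sum, map_sum]
    refine Ideal.sum_mem _ fun l _ => ?_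
    rw [map_smul, smul_eq_mul, map_mul]
    exact Ideal.mul_mem_left _ _ (hne l)
  obtain ⟨l, hl⟩ := hex
  let g : Γ(Y, i.1.1) := φ (B l)
  have hW : IsAffineOpen (Y.basicOpen g) := i.1.2.basicOpen g
  have hle := Y.basicOpen_le g
  let b' : Fin 2 → Γ(dirO π, Y.basicOpen g) := fun t => (dirO π).presheaf.map (homOfLE hle).op (b t)
  have hb' : ∀ (z : Y) (hz : z ∈ Y.basicOpen g), DetDegLib.FrameAt (dirO π) b' hz := fun z hz =>
    (DetDegLib.frameAt_res hle b hz).mpr (hb z (hle hz))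
  let j : Good π 2 := ⟨⟨Y.basicOpen g, hW⟩, b', hb'⟩
  let B' := frameBasis hW b' hb'
  let φ' : Γ(dirO π, Y.basicOpen g) →ₗ[Γ(Y, Y.basicOpen g)] Γ(Y, Y.basicOpen g) := QCohLib.appLin τ (Y.basicOpen g)
  have hu : IsUnit (φ' (B' l)) := by
    have e : φ' (B' l) = Y.presheaf.map (homOfLE hle).op g := by
      rw [EtTwoLib.frameBasis_apply]
      exact (QCohLib.app_map τ (homOfLE hle) (b l)).trans (by rw [← EtTwoLib.frameBasis_apply i.1.2 b hb l]; rfl)
    rw [e]
    exact RingedSpace.isUnit_res_basicOpen _ g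
  obtain ⟨w, hw⟩ := hu.exists_left_inv
  obtain ⟨hv0, hvinj, hvsurj⟩ := FinCovLib.kernel_basis (n := 1) B' φ' l w hw
  let v := B' (l.succAbove 0) - (φ' (B' (l.succAbove 0)) * w) • B' l
  obtain ⟨k, hk⟩ := GrassSch.exists_lift_kernel τ (v : Γ(dirO π, Y.basicOpen g)) (hv0 0)
  let ι := QCohLib.appLin (kernel.ι τ) (Y.basicOpen g)
  have hι : Function.Injective ι := QCohLib.app_injective_of_mono (kernel.ι τ) _
  have hbk : Function.Bijective fun c : Fin 1 → Γ(Y, Y.basicOpen g) => c 0 • k := by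
    refine ⟨fun c c' h => hvinj ?_, fun t => ?_⟩
    · have e := congrArg ι h
      simp only [map_smul] at e
      rw [show ι k = v from hk] at e
      exact (Fin.sum_univ_one (fun t => c t • (B' (l.succAbove t) - (φ' (B' (l.succAbove t)) * w) • B' l))).trans
        (e.trans (Fin.sum_univ_one (fun t => c' t • (B' (l.succAbove t) - (φ' (B' (l.succAbove t)) * w) • B' l))).symm)
    · obtain ⟨c, hc⟩ := hvsurj (ι t) (congrArg (fun f => Scheme.Modules.Hom.app f (Y.basicOpen g) t) (kernel.condition τ))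
      refine ⟨c, hι ?_⟩
      rw [map_smul, show ι k = v from hk]
      exact (Fin.sum_univ_one _).symm.trans hc
  let K' : Module.Basis (Fin 1) Γ(Y, Y.basicOpen g) Γ(kernel τ, Y.basicOpen g) :=
    Module.Basis.ofEquivFun (LinearEquiv.ofBijective
      { toFun := fun c : Fin 1 → Γ(Y, Y.basicOpen g) => c 0 • k
        map_add' := fun c c' => add_smul _ _ _
        map_smul' := fun r c => mul_smul _ _ _ } hbk).symm
  have hKk : K' 0 = k := by
    simp only [K', Module.Basis.coe_ofEquivFun, LinearEquiv.symm_symm, LinearEquiv.ofBijective_apply]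
    show (Pi.single 0 (1 : Γ(Y, Y.basicOpen g)) : Fin 1 → Γ(Y, Y.basicOpen g)) 0 • k = k
    rw [Pi.single_eq_same, one_smul]
  have hgen : GenOn (kernel τ) k := TwistLib.genOn_of_genAt fun z hz => by
    have h := FinCovLib.isFrame_of_affine_basis hW K' z hz
    rw [← hKk]
    exact (congrArg Function.Bijective (funext fun c => by simp [Fintype.linearCombination_apply]; rfl)).mp
      (h.comp (Equiv.funUnique (Fin 1) (Y.presheaf.stalk z)).symm.bijective)
  letI := algV π (Y.basicOpen g)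
  let a : Γ(X, π ⁻¹ᵁ Y.basicOpen g) := v
  obtain ⟨half, hhalf⟩ := (isUnit_two h2 (Y.basicOpen g)).exists_right_inv
  have h1 : φ' (show Γ(dirO π, Y.basicOpen g) from (1 : Γ(X, π ⁻¹ᵁ Y.basicOpen g))) = 2 := (hτ j _).trans (trV_one j)
  have hπ : ∀ p, φ' (π.app (Y.basicOpen g) p : Γ(X, π ⁻¹ᵁ Y.basicOpen g)) = p * 2 := fun p => by
    rw [← h1, ← smul_eq_mul, ← map_smul]
    exact congrArg φ' (show _ = π.app (Y.basicOpen g) p * 1 from (mul_one _).symm)
  have hbij : Function.Bijective (fun p : Γ(Y, Y.basicOpen g) × Γ(Y, Y.basicOpen g) =>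
      π.app (Y.basicOpen g) p.1 + π.app (Y.basicOpen g) p.2 * a) := by
    have hτq : ∀ q, φ' ((π.app (Y.basicOpen g) q * a : Γ(X, π ⁻¹ᵁ Y.basicOpen g)) : Γ(dirO π, Y.basicOpen g)) = 0 :=
      fun q => (map_smul φ' q v).trans (by rw [hv0 0, smul_zero])
    constructor
    · rintro ⟨p, q⟩ ⟨p', q'⟩ h
      have e := congrArg (fun t : Γ(X, π ⁻¹ᵁ Y.basicOpen g) => φ' (t : Γ(dirO π, Y.basicOpen g))) h
      erw [map_add φ', map_add φ', hπ, hπ, hτq, hτq, add_zero, add_zero] at e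
      have hp : p = p' := by linear_combination half * e - (p - p') * hhalf
      subst hp
      refine Prod.ext rfl ?_
      exact congrFun (hvinj (a₁ := fun _ : Fin 1 => q) (a₂ := fun _ => q')
        ((Fin.sum_univ_one (fun t => q • (B' (l.succAbove t) - (φ' (B' (l.succAbove t)) * w) • B' l))).trans ((show (q • v : Γ(dirO π, Y.basicOpen g)) = q' • v from (add_right_inj (π.app (Y.basicOpen g) p)).1 h).trans
          (Fin.sum_univ_one (fun t => q' • (B' (l.succAbove t) - (φ' (B' (l.succAbove t)) * w) • B' l))).symm))) 0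
    · intro t
      let p := half * φ' (t : Γ(dirO π, Y.basicOpen g))
      obtain ⟨c, hc⟩ := hvsurj ((t - π.app (Y.basicOpen g) p : Γ(X, π ⁻¹ᵁ Y.basicOpen g)) : Γ(dirO π, Y.basicOpen g)) (by
        erw [map_sub φ', hπ]
        linear_combination -φ' (t : Γ(dirO π, Y.basicOpen g)) * hhalf)
      rw [Fin.sum_univ_one] at hc
      exact ⟨(p, c 0), (congrArg (π.app _ p + ·) (show π.app _ (c 0) * a = t - π.app _ p from hc)).trans (add_sub_cancel _ _)⟩
  refine ⟨_, a, k, hW, (Scheme.mem_basicOpen _ _ _ _).mpr hl, hgen, hk, hbij, ?_⟩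
  let Bs : Module.Basis (Fin 2) Γ(Y, Y.basicOpen g) Γ(X, π ⁻¹ᵁ Y.basicOpen g) := B'
  exact FinCovLib.sq_scalar Bs a ((hτ j v).symm.trans (hv0 0))

end DblTrLib
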